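import Groth.Agent.Lib.CohDer19.Unit
import Groth.Agent.Lib.BCDVcomp.Derived
import Groth.Agent.Lib.BCDVcomp.Homology
import Mathlib.Algebra.Homology.HomotopyCategory.KInjective

/-!
# Homology of total right derived functors on objects placed in degree zero
-/

set_option autoImplicit false
set_option backward.isDefEq.respectTransparency false
set_option backward.isDefEq.respectTransparency.types false
set_option linter.style.haveILetI false

open CategoryTheory CategoryTheory.Limits HomotopyCategory

universe w w' v v' u u'

noncomputable section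

namespace GrothLib.BCDHom13

section Complexes

variable {A : Type u} [Category.{v} A] [Abelian A] [HasDerivedCategory.{w} A]

/-- Homology of the image in the derived category of a complex. -/
def homQ (n : ℤ) :
    (HomotopyCategory.quotient A (ComplexShape.up ℤ) ⋙ DerivedCategory.Qh) ⋙
        DerivedCategory.homologyFunctor A n ≅
      HomologicalComplex.homologyFunctor A (ComplexShape.up ℤ) n :=
  Functor.associator _ _ _ ≪≫
    Functor.isoWhiskerLeft _ (DerivedCategory.homologyFunctorFactorsh A n) ≪≫
      HomotopyCategory.homologyFunctorFactors A (ComplexShape.up ℤ) n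

theorem isIso_homQ_iff (n : ℤ) {K L : CochainComplex A ℤ} (φ : K ⟶ L) :
    IsIso ((DerivedCategory.homologyFunctor A n).map
      (DerivedCategory.Qh.map ((HomotopyCategory.quotient A (ComplexShape.up ℤ)).map φ))) ↔
      IsIso (HomologicalComplex.homologyMap φ n) :=
  NatIso.isIso_map_iff (homQ n) φ

omit [HasDerivedCategory.{w} A] in
/-- For complexes in degree zero, a morphism is an isomorphism as soon as it is one on homology. -/
theorem isIso_f_zero_of_homologyMap {K L : CochainComplex A ℤ} (φ : K ⟶ L)
    (hK : ∀ n, n ≠ 0 → IsZero (K.X n)) (hL : ∀ n, n ≠ 0 → IsZero (L.X n))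
    [IsIso (HomologicalComplex.homologyMap φ 0)] : IsIso (φ.f 0) := by
  haveI := K.isIso_iCycles 0 1 (by simp) ((hK 1 (by norm_num)).eq_of_tgt _ _)
  haveI := L.isIso_iCycles 0 1 (by simp) ((hL 1 (by norm_num)).eq_of_tgt _ _)
  haveI := K.isIso_homologyπ (-1) 0 (by simp) ((hK (-1) (by norm_num)).eq_of_src _ _)
  haveI := L.isIso_homologyπ (-1) 0 (by simp) ((hL (-1) (by norm_num)).eq_of_src _ _)
  haveI : IsIso (HomologicalComplex.cyclesMap φ 0 ≫ L.homologyπ 0) := by
    rw [← HomologicalComplex.homologyπ_naturality]; infer_instance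
  haveI : IsIso (HomologicalComplex.cyclesMap φ 0) := IsIso.of_isIso_comp_right _ (L.homologyπ 0)
  haveI : IsIso (K.iCycles 0 ≫ φ.f 0) := by
    rw [← HomologicalComplex.cyclesMap_i]; infer_instance
  exact IsIso.of_isIso_comp_left (K.iCycles 0) _

end Complexes

section Single

variable {A : Type u} [Category.{v} A] [Abelian A] [EnoughInjectives A]
  {B : Type u'} [Category.{v'} B] [Abelian B] (F : A ⥤ B) [F.Additive]

/-- A left exact functor keeps degree zero homology of an injective resolution. -/
theorem quasiIsoAt_zero_map_ι' [PreservesFiniteLimits F] {X : A} (I : InjectiveResolution X) :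
    QuasiIsoAt ((F.mapHomologicalComplex (ComplexShape.up ℤ)).map I.ι') 0 := by
  let f := (F.mapHomologicalComplex (ComplexShape.up ℕ)).map I.ι
  have h0 : IsIso (HomologicalComplex.homologyMap f 0) := by
    let S := (F.mapHomologicalComplex (ComplexShape.up ℕ)).obj ((CochainComplex.single₀ A).obj X)
    let c : F.obj X ⟶ S.cycles 0 := S.liftCycles (𝟙 (F.obj X)) 1 (by simp) (by
      show 𝟙 _ ≫ F.map _ = 0
      erw [HomologicalComplex.single_obj_d, F.map_zero, comp_zero])
    have hci : c ≫ S.iCycles 0 = 𝟙 (F.obj X) := S.liftCycles_i _ _ _ _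
    have hc : IsIso c := by
      refine ⟨S.iCycles 0, hci, ?_⟩
      rw [← cancel_mono (S.iCycles 0)]
      exact ((Category.assoc _ _ _).trans ((congrArg _ hci).trans (Category.comp_id _))).trans
        (Category.id_comp _).symm
    have he : I.toRightDerivedZero' F = c ≫ HomologicalComplex.cyclesMap f 0 := by
      rw [← cancel_mono (HomologicalComplex.iCycles _ _), Category.assoc,
        HomologicalComplex.cyclesMap_i, InjectiveResolution.toRightDerivedZero'_comp_iCycles]
      exact ((Category.assoc _ _ _).symm.trans ((congrArg (· ≫ f.f 0) hci).trans (Category.id_comp _))).symm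
    have hn := HomologicalComplex.homologyπ_naturality f 0
    have : IsIso (I.isoRightDerivedObj F 0).inv := Iso.isIso_inv _
    have h : IsIso (F.toRightDerivedZero.app X) := inferInstance
    rw [I.toRightDerivedZero_eq F, he, Category.assoc, isIso_comp_left_iff] at h
    have h' := (GrothLib.CohDer19.isIso_comp_comp_iff _ _ _ this).1 h
    have h'' : IsIso (HomologicalComplex.cyclesMap f 0 ≫ HomologicalComplex.homologyπ _ 0) := h'
    have : IsIso (S.homologyπ 0) := (CochainComplex.isoHomologyπ₀ S).isIso_hom
    rwa [← hn, isIso_comp_left_iff] at h''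
  have h1 : QuasiIsoAt (HomologicalComplex.extendMap f ComplexShape.embeddingUpNat) 0 :=
    (HomologicalComplex.quasiIsoAt_extendMap_iff f ComplexShape.embeddingUpNat (j := 0) (j' := 0)
      (by simp)).2 ((quasiIsoAt_iff_isIso_homologyMap f 0).2 h0)
  let e₀ := HomologicalComplex.extendSingleIso ComplexShape.embeddingUpNat X 0 0 rfl
  show QuasiIsoAt ((F.mapHomologicalComplex (ComplexShape.up ℤ)).map
    (e₀.inv ≫ HomologicalComplex.extendMap I.ι ComplexShape.embeddingUpNat)) 0
  rw [quasiIsoAt_iff_isIso_homologyMap, Functor.map_comp, HomologicalComplex.homologyMap_comp]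
  haveI : IsIso (HomologicalComplex.homologyMap
      ((F.mapHomologicalComplex (ComplexShape.up ℤ)).map e₀.inv) 0) :=
    inferInstanceAs (IsIso ((HomologicalComplex.homologyFunctor B (ComplexShape.up ℤ) 0).mapIso
      ((F.mapHomologicalComplex (ComplexShape.up ℤ)).mapIso e₀.symm)).hom)
  haveI : IsIso (HomologicalComplex.homologyMap ((F.mapHomologicalComplex (ComplexShape.up ℤ)).map
      (HomologicalComplex.extendMap I.ι ComplexShape.embeddingUpNat)) 0) := by
    rw [quasiIsoAt_iff_isIso_homologyMap] at h1
    let HF := HomologicalComplex.homologyFunctor B (ComplexShape.up ℤ) 0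
    have hsq := congrArg HF.map
      (GrothLib.BCCoh.mapExtendIso_natural' ComplexShape.embeddingUpNat F _ I.ι)
    simp only [Functor.map_comp] at hsq
    haveI : IsIso (HF.map (HomologicalComplex.extendMap f ComplexShape.embeddingUpNat)) := h1
    haveI hm : IsIso (HF.map ((F.mapHomologicalComplex (ComplexShape.up ℤ)).map
        (HomologicalComplex.extendMap I.ι ComplexShape.embeddingUpNat)) ≫
        HF.map (GrothLib.BCCoh.mapExtendIso ComplexShape.embeddingUpNat F I.cocomplex).hom) := by
      rw [hsq]; infer_instance
    exact (isIso_comp_right_iff _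
      (HF.map (GrothLib.BCCoh.mapExtendIso ComplexShape.embeddingUpNat F I.cocomplex).hom)).1 hm
  infer_instance

/-- Homology of the image of an injective resolution. -/
def homologyMapResolutionIso {X : A} (I : InjectiveResolution X) (i : ℕ) :
    ((F.mapHomologicalComplex (ComplexShape.up ℤ)).obj I.cochainComplex).homology (i : ℤ) ≅
      (F.rightDerived i).obj X :=
  (HomologicalComplex.homologyFunctor B (ComplexShape.up ℤ) (i : ℤ)).mapIso
      (GrothLib.BCCoh.mapExtendIso ComplexShape.embeddingUpNat F I.cocomplex) ≪≫
    HomologicalComplex.extendHomologyIso _ ComplexShape.embeddingUpNat (j := i) (by simp) ≪≫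
      (I.isoRightDerivedObj F i).symm

end Single

section Derived

variable {A : Type u} [Category.{v} A] [Abelian A] [IsGrothendieckAbelian.{v} A]
  [HasDerivedCategory.{w} A]
  {B : Type u'} [Category.{v'} B] [Abelian B] [HasDerivedCategory.{w'} B] (F : A ⥤ B) [F.Additive]
  [(F.mapHomotopyCategory (ComplexShape.up ℤ) ⋙ DerivedCategory.Qh).HasRightDerivedFunctor
    (HomotopyCategory.quasiIso A (ComplexShape.up ℤ))]

/-- The total right derived functor. -/
abbrev RD : DerivedCategory A ⥤ DerivedCategory B :=
  (F.mapHomotopyCategory (ComplexShape.up ℤ) ⋙ DerivedCategory.Qh).totalRightDerived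
    DerivedCategory.Qh (HomotopyCategory.quasiIso A (ComplexShape.up ℤ))

/-- Its unit. -/
abbrev UD : F.mapHomotopyCategory (ComplexShape.up ℤ) ⋙ DerivedCategory.Qh ⟶
    DerivedCategory.Qh ⋙ RD F :=
  (F.mapHomotopyCategory (ComplexShape.up ℤ) ⋙ DerivedCategory.Qh).totalRightDerivedUnit
    DerivedCategory.Qh (HomotopyCategory.quasiIso A (ComplexShape.up ℤ))

variable {X : A} (I : InjectiveResolution X)

theorem rightOrthogonal_resolution :
    (subcategoryAcyclic A).rightOrthogonal
      ((HomotopyCategory.quotient A (ComplexShape.up ℤ)).obj I.cochainComplex) := by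
  haveI := CochainComplex.isKInjective_of_injective I.cochainComplex 0
  exact (CochainComplex.isKInjective_iff_rightOrthogonal _).1 inferInstance

theorem isIso_UD_resolution :
    IsIso ((UD F).app ((HomotopyCategory.quotient A (ComplexShape.up ℤ)).obj I.cochainComplex)) :=
  BCDVcomp.isIso_derivedUnit _ (rightOrthogonal_resolution I)

omit [IsGrothendieckAbelian.{v} A] in
theorem isIso_Qh_ι' :
    IsIso (DerivedCategory.Qh.map ((HomotopyCategory.quotient A (ComplexShape.up ℤ)).map I.ι')) :=
  (NatIso.isIso_map_iff (DerivedCategory.quotientCompQhIso A) I.ι').2 inferInstance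

/-- The unit is an isomorphism on degree zero homology at a single object. -/
theorem isIso_homology_zero_UD [PreservesFiniteLimits F] (X : A) :
    IsIso ((DerivedCategory.homologyFunctor B 0).map ((UD F).app
      ((HomotopyCategory.quotient A (ComplexShape.up ℤ)).obj
        ((HomologicalComplex.single A (ComplexShape.up ℤ) 0).obj X)))) := by
  let I := injectiveResolution X
  haveI := isIso_Qh_ι' I
  haveI := isIso_UD_resolution F I
  haveI h1 : IsIso ((DerivedCategory.homologyFunctor B 0).map (DerivedCategory.Qh.map
      ((F.mapHomotopyCategory (ComplexShape.up ℤ)).map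
        ((HomotopyCategory.quotient A (ComplexShape.up ℤ)).map I.ι')))) :=
    (isIso_homQ_iff 0 ((F.mapHomologicalComplex (ComplexShape.up ℤ)).map I.ι')).2
      ((quasiIsoAt_iff_isIso_homologyMap _ 0).1 (quasiIsoAt_zero_map_ι' F I))
  have hn := congrArg (DerivedCategory.homologyFunctor B 0).map
    ((UD F).naturality ((HomotopyCategory.quotient A (ComplexShape.up ℤ)).map I.ι'))
  simp only [Functor.comp_map, Functor.map_comp] at hn
  have h2 : IsIso ((DerivedCategory.homologyFunctor B 0).map ((UD F).app
      ((HomotopyCategory.quotient A (ComplexShape.up ℤ)).obj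
        ((CochainComplex.singleFunctor A 0).obj X))) ≫
      (DerivedCategory.homologyFunctor B 0).map ((RD F).map
        (DerivedCategory.Qh.map ((HomotopyCategory.quotient A (ComplexShape.up ℤ)).map I.ι')))) := by
    rw [← hn]; infer_instance
  rw [isIso_comp_right_iff] at h2
  exact h2

/-- Degree zero: any complex isomorphic to a single object. -/
theorem isIso_homology_zero_UD_of_iso [PreservesFiniteLimits F] {X : A} (K : CochainComplex A ℤ)
    (e : K ≅ (HomologicalComplex.single A (ComplexShape.up ℤ) 0).obj X) :
    IsIso ((DerivedCategory.homologyFunctor B 0).map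
      ((UD F).app ((HomotopyCategory.quotient A (ComplexShape.up ℤ)).obj K))) :=
  (NatTrans.isIso_app_iff_of_iso (Functor.whiskerRight (UD F) (DerivedCategory.homologyFunctor B 0))
    ((HomotopyCategory.quotient A (ComplexShape.up ℤ)).mapIso e)).2 (isIso_homology_zero_UD F X)

/-- The homology of the derived functor at a single object is the classical derived functor. -/
def homologyRDIso (X : A) (i : ℕ) :
    (DerivedCategory.homologyFunctor B (i : ℤ)).obj ((RD F).obj (DerivedCategory.Qh.obj
      ((HomotopyCategory.quotient A (ComplexShape.up ℤ)).obj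
        ((HomologicalComplex.single A (ComplexShape.up ℤ) 0).obj X)))) ≅ (F.rightDerived i).obj X :=
  (DerivedCategory.homologyFunctor B (i : ℤ)).mapIso
      ((RD F).mapIso (@asIso _ _ _ _ _ (isIso_Qh_ι' (injectiveResolution X))) ≪≫
        (@asIso _ _ _ _ _ (isIso_UD_resolution F (injectiveResolution X))).symm) ≪≫
    (homQ (i : ℤ)).app _ ≪≫ homologyMapResolutionIso F (injectiveResolution X) i

end Derived

end GrothLib.BCDHom13
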