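import Groth.Agent.Lib.BCDHom13.Basic
import Groth.Agent.Lib.BCDVcomp.Main

/-!
# Degree-wise content of the derived base change morphism at a single sheaf
-/

set_option autoImplicit false
set_option backward.isDefEq.respectTransparency false
set_option backward.isDefEq.respectTransparency.types false
set_option linter.style.haveILetI false

universe u

open CategoryTheory CategoryTheory.Limits AlgebraicGeometry HomotopyCategory
open GrothLib.BCDVcomp
attribute [local instance] HasDerivedCategory.standard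

noncomputable section

namespace GrothLib.BCDHom13

variable {X S Y T : Scheme.{u}}

/-- Any adjunction of derived functors agrees with the underlying one up to an isomorphism. -/
theorem exists_symm_Qh_comp_U (f : X ⟶ S) [PreservesFiniteLimits (EtCoh.pull f)] [DCoh.HasRpushEt X f]
    [(EtCoh.pull f).Additive]
    (adj : EtBC.pullD f ⊣ DCoh.RpushEt X f) {A : HomotopyCategory (EtCoh.Ab S) (ComplexShape.up ℤ)}
    {M : HomotopyCategory (EtCoh.Ab X) (ComplexShape.up ℤ)}
    (p : A ⟶ ((EtCoh.push f).mapHomotopyCategory (ComplexShape.up ℤ)).obj M) :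
    ∃ (x : (EtBC.pullD f).obj (DerivedCategory.Qh.obj A) ⟶
        DerivedCategory.Qh.obj (((EtCoh.pull f).mapHomotopyCategory (ComplexShape.up ℤ)).obj A)),
      IsIso x ∧ (adj.homEquiv _ _).symm (DerivedCategory.Qh.map p ≫ (U f).app M) =
        x ≫ DerivedCategory.Qh.map
          (((KInj.mapHomotopyAdj (EtCoh.pullPushAdj f)).homEquiv _ _).symm p) := by
  let adjK := KInj.mapHomotopyAdj (EtCoh.pullPushAdj f)
  refine ⟨(adj.homEquiv _ _).symm (DerivedCategory.Qh.map (adjK.unit.app A) ≫ (U f).app _), ?_, ?_⟩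
  · refine isIso_symm_of_resolutions adjK (U f) adj
      (fun I => (subcategoryAcyclic (EtCoh.Ab X)).rightOrthogonal I)
      (fun D => ⟨_, KInj.rightOrthogonal_res D, ⟨asIso ((KInj.resAdj (EtCoh.Ab X)).counit.app D)⟩⟩)
      (fun Z I hI => hI.map_bijective_of_isTriangulated DerivedCategory.Qh Z)
      (fun A I hI => (KInj.rightOrthogonal_map (EtCoh.pullPushAdj f) hI).map_bijective_of_isTriangulated
        DerivedCategory.Qh A)
      (fun I hI => isIso_derivedUnit (DCoh.pushEtKh X f) hI) (adjK.unit.app A) ?_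
    erw [Adjunction.homEquiv_counit, Adjunction.left_triangle_components]
    infer_instance
  · rw [← adj.homEquiv_naturality_right_symm]
    refine congrArg _ ?_
    have h1 : p = adjK.unit.app A ≫
        ((EtCoh.push f).mapHomotopyCategory (ComplexShape.up ℤ)).map ((adjK.homEquiv _ _).symm p) := by
      exact (((adjK.homEquiv_unit _ _ _).symm).trans (Equiv.apply_symm_apply _ _)).symm
    have h2 := (U f).naturality ((adjK.homEquiv _ _).symm p)
    simp only [Functor.comp_map] at h2
    conv_lhs => rw [h1]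
    rw [Functor.map_comp, Category.assoc, h2, Category.assoc]

/-- The transpose, componentwise. -/
theorem transpose_mapH₃ (g : T ⟶ S) (f : X ⟶ S) (h : Y ⟶ X) (e : Y ⟶ T) (c : e ≫ g = h ≫ f)
    [(EtCoh.pull e).Additive] [(EtCoh.pull f).Additive]
    (C : CochainComplex (EtCoh.Ab T) ℤ) :
    ∃ φ : ((EtCoh.pull f).mapHomologicalComplex (ComplexShape.up ℤ)).obj
          (((EtCoh.push g).mapHomologicalComplex (ComplexShape.up ℤ)).obj C) ⟶
        ((EtCoh.push h).mapHomologicalComplex (ComplexShape.up ℤ)).obj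
          (((EtCoh.pull e).mapHomologicalComplex (ComplexShape.up ℤ)).obj C),
      (∀ n, φ.f n = EtCoh.baseChange0 g f h e c (C.X n)) ∧
      ((KInj.mapHomotopyAdj (EtCoh.pullPushAdj f)).homEquiv _ _).symm
          ((mapH₃ (ComplexShape.up ℤ) (EtBC.pushToPushPull g f h e c)).app
            ((HomotopyCategory.quotient _ _).obj C)) =
        (HomotopyCategory.quotient _ _).map φ := by
  let α := EtBC.pushToPushPull g f h e c
  let adj := EtCoh.pullPushAdj f
  let φ : ((EtCoh.pull f).mapHomologicalComplex (ComplexShape.up ℤ)).obj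
          (((EtCoh.push g).mapHomologicalComplex (ComplexShape.up ℤ)).obj C) ⟶
        ((EtCoh.push h).mapHomologicalComplex (ComplexShape.up ℤ)).obj
          (((EtCoh.pull e).mapHomologicalComplex (ComplexShape.up ℤ)).obj C) :=
    { f := fun n => (adj.homEquiv _ _).symm (α.app (C.X n))
      comm' := fun m n _ => by
        show (adj.homEquiv _ _).symm _ ≫ (EtCoh.push h).map ((EtCoh.pull e).map _) =
          (EtCoh.pull f).map ((EtCoh.push g).map _) ≫ (adj.homEquiv _ _).symm _
        rw [← adj.homEquiv_naturality_right_symm, ← adj.homEquiv_naturality_left_symm]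
        exact congrArg _ (α.naturality (C.d m n)).symm }
  refine ⟨φ, fun n => baseChange0_transpose g f h e c _, ?_⟩
  rw [Adjunction.homEquiv_counit]
  simp only [mapH₃, Functor.mapHomotopyCategoryCompIso, NatTrans.comp_app,
    Functor.whiskerLeft_app, NatTrans.mapHomotopyCategory_app, KInj.mapHomotopyAdj]
  dsimp [Quotient.natIsoLift, Quotient.natTransLift]
  simp only [← Functor.map_comp]
  erw [Functor.mapHomotopyCategory_map, ← Functor.map_comp]
  congr 1

/-- If the derived base change morphism at a single sheaf is an isomorphism on `H^0`, the classical one is. -/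
theorem isIso_baseChange0 (g : T ⟶ S) (f : X ⟶ S) (h : Y ⟶ X) (e : Y ⟶ T) (c : e ≫ g = h ≫ f)
    [PreservesFiniteLimits (EtCoh.pull e)] [PreservesFiniteLimits (EtCoh.pull f)]
    [DCoh.HasRpushEt T g] [DCoh.HasRpushEt Y h] [DCoh.HasRpushEt X f]
    (adj : EtBC.pullD f ⊣ DCoh.RpushEt X f) (G : EtCoh.Ab T)
    (hbc : IsIso ((DerivedCategory.homologyFunctor (EtCoh.Ab X) 0).map
      (EtBC.bcMap g f h e c adj (EtBC.single T G)))) :
    IsIso (EtCoh.baseChange0 g f h e c G) := by
  haveI := BCQVcomp.pull_additive f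
  haveI := BCQVcomp.pull_additive e
  haveI : PreservesFiniteLimits (EtCoh.push g) :=
    haveI := (EtCoh.pullPushAdj g).isRightAdjoint; inferInstance
  haveI : PreservesFiniteLimits (EtCoh.push h) :=
    haveI := (EtCoh.pullPushAdj h).isRightAdjoint; inferInstance
  let C := (HomologicalComplex.single (EtCoh.Ab T) (ComplexShape.up ℤ) 0).obj G
  let K := (HomotopyCategory.quotient _ _).obj C
  let P := (EtCoh.pull e).mapHomologicalComplex (ComplexShape.up ℤ)
  obtain ⟨x, hx, hxeq⟩ := exists_symm_Qh_comp_U f adj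
    ((mapH₃ (ComplexShape.up ℤ) (EtBC.pushToPushPull g f h e c)).app K)
  obtain ⟨φ, hφ, hφeq⟩ := transpose_mapH₃ g f h e c C
  let H0 := DerivedCategory.homologyFunctor (EtCoh.Ab X) 0
  haveI hg : IsIso (H0.map ((EtBC.pullD f).map ((U g).app K))) := by
    haveI : IsIso ((DerivedCategory.homologyFunctor (EtCoh.Ab S) 0).map ((U g).app K)) :=
      isIso_homology_zero_UD (EtCoh.push g) G
    exact (NatIso.isIso_map_iff (homologyMapDerivedIso (EtCoh.pull f) 0) ((U g).app K)).2
      (Functor.map_isIso (EtCoh.pull f) _)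
  haveI hh : IsIso (H0.map ((U h).app ((HomotopyCategory.quotient _ _).obj (P.obj C)))) :=
    isIso_homology_zero_UD_of_iso (EtCoh.push h) (P.obj C)
      ((HomologicalComplex.singleMapHomologicalComplex (EtCoh.pull e) (ComplexShape.up ℤ) 0).app G)
  have hfac := congrArg (adj.homEquiv _ _).symm (bcAdj_fac f g h e c K)
  rw [Adjunction.homEquiv_naturality_left_symm, ← Category.assoc (DerivedCategory.Qh.map _),
    ← (DCoh.RpushEt X f).map_comp] at hfac
  erw [Adjunction.homEquiv_naturality_right_symm, hxeq] at hfac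
  have hfac' := congrArg H0.map hfac
  simp only [Functor.map_comp] at hfac'
  haveI : IsIso (H0.map (EtBC.bcMap g f h e c adj (DerivedCategory.Qh.obj K))) := hbc
  haveI hl : IsIso (H0.map ((EtBC.pullD f).map ((U g).app K)) ≫
      H0.map ((adj.homEquiv _ _).symm ((EtBC.bcAdj g f h e c).app (DerivedCategory.Qh.obj K)))) :=
    @IsIso.comp_isIso _ _ _ _ _ _ _ hg hbc
  rw [hfac', hφeq] at hl
  have hr : IsIso (H0.map (DerivedCategory.Qh.map ((HomotopyCategory.quotient _ _).map φ))) := by
    haveI := hx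
    haveI : IsIso (H0.map ((U h).app (((EtCoh.pull e).mapHomotopyCategory (ComplexShape.up ℤ)).obj K)) ≫
        H0.map ((DCoh.RpushEt Y h).map ((EtCoh.pull e).mapDerivedCategoryFactorsh.inv.app K))) :=
      @IsIso.comp_isIso _ _ _ _ _ _ _ hh inferInstance
    erw [isIso_comp_right_iff, isIso_comp_left_iff] at hl
    exact hl
  haveI := (isIso_homQ_iff 0 φ).1 hr
  have hz : ∀ n : ℤ, n ≠ 0 → IsZero (C.X n) := fun n hn =>
    HomologicalComplex.isZero_single_obj_X _ _ _ _ hn
  haveI h0 := isIso_f_zero_of_homologyMap φ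
    (fun n hn => (EtCoh.pull f).map_isZero ((EtCoh.push g).map_isZero (hz n hn)))
    (fun n hn => (EtCoh.push h).map_isZero ((EtCoh.pull e).map_isZero (hz n hn)))
  rw [hφ, ← baseChange0_transpose] at h0
  rw [← baseChange0_transpose]
  let β : EtCoh.push g ⋙ EtCoh.pull f ⟶ EtCoh.pull e ⋙ EtCoh.push h :=
    { app := fun N => ((EtCoh.pullPushAdj f).homEquiv _ _).symm ((EtBC.pushToPushPull g f h e c).app N)
      naturality := fun {N N'} a => by
        dsimp only [Functor.comp_map, Functor.comp_obj]
        rw [← Adjunction.homEquiv_naturality_right_symm, ← Adjunction.homEquiv_naturality_left_symm]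
        exact congrArg _ ((EtBC.pushToPushPull g f h e c).naturality a) }
  exact (NatTrans.isIso_app_iff_of_iso β (HomologicalComplex.singleObjXSelf (ComplexShape.up ℤ) 0 G)).1 h0

/-- An isomorphism on `H^i` kills `R^i` upstairs as soon as it vanishes downstairs. -/
theorem isZero_Rpush (g : T ⟶ S) (f : X ⟶ S) (h : Y ⟶ X) (e : Y ⟶ T) (c : e ≫ g = h ≫ f)
    [PreservesFiniteLimits (EtCoh.pull e)] [PreservesFiniteLimits (EtCoh.pull f)]
    [DCoh.HasRpushEt T g] [DCoh.HasRpushEt Y h] [DCoh.HasRpushEt X f]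
    (adj : EtBC.pullD f ⊣ DCoh.RpushEt X f) (G : EtCoh.Ab T) (i : ℕ)
    (hbc : IsIso ((DerivedCategory.homologyFunctor (EtCoh.Ab X) (i : ℤ)).map
      (EtBC.bcMap g f h e c adj (EtBC.single T G))))
    (hG : IsZero ((EtCoh.Rpush g i).obj G)) :
    IsZero ((EtCoh.Rpush h i).obj ((EtCoh.pull e).obj G)) := by
  haveI := BCQVcomp.pull_additive f
  haveI := BCQVcomp.pull_additive e
  let C := (HomologicalComplex.single (EtCoh.Ab T) (ComplexShape.up ℤ) 0).obj G
  let Hi := DerivedCategory.homologyFunctor (EtCoh.Ab X) (i : ℤ)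
  have hsrc : IsZero (Hi.obj ((EtBC.pullD f).obj ((DCoh.RpushEt T g).obj (EtBC.single T G)))) :=
    ((EtCoh.pull f).map_isZero (hG.of_iso (homologyRDIso (EtCoh.push g) G i))).of_iso
      ((homologyMapDerivedIso (EtCoh.pull f) (i : ℤ)).app _)
  have htgt := hsrc.of_iso (@asIso _ _ _ _ _ hbc).symm
  refine htgt.of_iso ?_
  refine (homologyRDIso (EtCoh.push h) _ i).symm ≪≫ Hi.mapIso ((DCoh.RpushEt Y h).mapIso ?_)
  exact DerivedCategory.Qh.mapIso ((HomotopyCategory.quotient _ _).mapIso
      ((HomologicalComplex.singleMapHomologicalComplex (EtCoh.pull e) (ComplexShape.up ℤ) 0).app G).symm) ≪≫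
    ((EtCoh.pull e).mapDerivedCategoryFactorsh.app ((HomotopyCategory.quotient _ _).obj C)).symm

end GrothLib.BCDHom13
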